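import Cfsg.Agent.H377.OddThree_m3
import Cfsg.Agent.S0293
import Cfsg.Agent.S0294
import Mathlib.Tactic
import Cfsg.Agent.Prune
set_option linter.all false
prune_inst 0x7f00000000000000000000000000000000000000000000000000000000000000000000000000000000000000000000000000000000000000000000000000000000000000000000000000000000000000003fffffffffffffffffffffffffffbeffbdffffffff
open scoped Cfsg.Agent.FastGrp

/-!
# S3482, rows `PΩ±`: elements and classes (helper706)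

`Ctx S F m δ` : `S` contains the elements of `PΩ` of type `δ` in dimension `2 m`, with the classes of its primes.
-/

set_option autoImplicit false

namespace Cfsg.Agent.H706.ESeven

open Cfsg Cfsg.Agent.H72.AdjOrth Cfsg.Agent.H377

universe u

/-! ### arithmetic of the classes (as in `H72.AdjCoc`) -/

section arith

theorem eta_le_of_dvd {k i : ℕ} (hi : 1 ≤ i) (h : k ∣ 2 * i) : eta k ≤ i := by
  rw [eta]
  split_ifs with h1
  · have := Nat.le_of_dvd (by omega) h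
    omega
  · have h2 : Nat.Coprime k 2 := Nat.coprime_two_right.2 (Nat.not_even_iff_odd.1 h1)
    exact Nat.le_of_dvd (by omega) (h2.dvd_of_dvd_mul_left h)

theorem eta_two_mul {q s i : ℕ} (hq : 1 ≤ q) (hi : 1 ≤ i) (h : s ∣ q ^ (2 * i) - 1) : eta (ee q s) ≤ i :=
  eta_le_of_dvd hi (ee_dvd hq h)

theorem pow_two_mul_sub {q m : ℕ} : q ^ (2 * m) - 1 = (q ^ m + 1) * (q ^ m - 1) := by
  rw [two_mul, pow_add]
  have := Nat.mul_self_sub_mul_self_eq (q ^ m) 1
  rw [one_mul] at this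
  exact this

theorem plus_arith {q s m : ℕ} (hq : 1 ≤ q) (hm : 2 ≤ m) (h : s ∣ q ^ m - 1) :
    eta (ee q s) < m ∨ (eta (ee q s) = m ∧ sg (ee q s) = 1) := by
  have h1 := ee_dvd hq h
  have h2 := Nat.le_of_dvd (by omega) h1
  rw [eta, sg]
  split_ifs with h3
  · left
    omega
  · rcases Nat.eq_or_lt_of_le h2 with h4 | h4
    · exact Or.inr ⟨h4, rfl⟩
    · exact Or.inl h4

theorem minus_arith {q s m : ℕ} (hq : 1 ≤ q) (hm : 2 ≤ m) (hs : s.Prime) (hs2 : s ≠ 2) (h : s ∣ q ^ m + 1) :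
    eta (ee q s) < m ∨ (eta (ee q s) = m ∧ sg (ee q s) = -1) := by
  have h0 : s ∣ q ^ (2 * m) - 1 := by
    rw [pow_two_mul_sub]
    exact h.mul_right _
  have h1 := eta_two_mul hq (by omega) h0
  rcases Nat.eq_or_lt_of_le h1 with h4 | h4
  · right
    refine ⟨h4, ?_⟩
    rw [sg]
    split_ifs with h3
    · rfl
    · exfalso
      rw [eta, if_neg h3] at h4
      have h5 := dvd_pow_ee (q := q) (r := s) hq
      rw [h4] at h5
      have h6 : s ∣ (q ^ m + 1) - (q ^ m - 1) := Nat.dvd_sub h h5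
      have h7 : 1 ≤ q ^ m := Nat.one_le_pow _ _ hq
      rw [show (q ^ m + 1) - (q ^ m - 1) = 2 by omega] at h6
      exact hs2 ((Nat.prime_dvd_prime_iff_eq hs Nat.prime_two).1 h6)
  · exact Or.inl h4

theorem prod_arith {q s n : ℕ} (hq : 1 ≤ q) (hs : s.Prime)
    (h : s ∣ ∏ i ∈ Finset.range n, (q ^ (2 * (i + 1)) - 1)) : eta (ee q s) ≤ n := by
  obtain ⟨i, hi, hi2⟩ := (hs.prime.dvd_finsetProd_iff _).1 h
  rw [Finset.mem_range] at hi
  exact (eta_two_mul hq (by omega) hi2).trans (by omega)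

end arith

/-- a group containing the elements of `PΩ` of type `δ` in dimension `2 m` -/
structure Ctx (S : Type u) [Group S] (F : Type) [Field F] [Finite F] (m : ℕ) (δ : ℤ) : Prop where
  hm : 4 ≤ m
  hδ : δ = 1 ∨ δ = -1
  el : ∀ N, Elt2 F m δ N → ∃ g : S, orderOf g = N
  cls : ∀ s : ℕ, s.Prime → s ≠ 2 → ¬ s ∣ Nat.card F → s ∣ Nat.card S →
    eta (ee (Nat.card F) s) < m ∨ (eta (ee (Nat.card F) s) = m ∧ sg (ee (Nat.card F) s) = δ)

theorem ctx_plus {S : Type u} [Group S] {F : Type} [Field F] [Fintype F] {m : ℕ} (hm : 4 ≤ m)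
    (e : S ≃* POmega F (quadFormPlus m F)) : Ctx S F m 1 := by
  refine ⟨hm, Or.inl rfl, fun N h => ?_, fun s hs _ hsq hd => ?_⟩
  · obtain ⟨g, hg⟩ := h.plus hm
    exact ⟨e.symm g, by rw [MulEquiv.orderOf_eq, hg]⟩
  · rw [Nat.card_congr e.toEquiv] at hd
    have h1 : s ∣ Nat.gcd 4 (Fintype.card F ^ m - 1) * Nat.card (Cfsg.POmega F (Cfsg.quadFormPlus m F)) :=
      Dvd.dvd.mul_left hd _
    rw [Cfsg.Agent.S0293.result (F := F) rfl m hm, ← Nat.card_eq_fintype_card] at h1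
    rcases (Nat.Prime.dvd_mul hs).1 h1 with h3 | h3
    · rcases (Nat.Prime.dvd_mul hs).1 h3 with h4 | h4
      · exact absurd (hs.dvd_of_dvd_pow h4) hsq
      · exact plus_arith Nat.card_pos (by omega) h4
    · left
      have := prod_arith Nat.card_pos hs h3
      omega

theorem ctx_minus {S : Type u} [Group S] {F : Type} [Field F] [Fintype F] {m : ℕ} (hm : 4 ≤ m) {a b : F}
    (hab : ∀ z₁ z₂ : F, z₁ ^ 2 + a * z₁ * z₂ + b * z₂ ^ 2 = 0 → z₁ = 0 ∧ z₂ = 0)
    (e : S ≃* POmega F (quadFormMinus (m - 1) F a b)) : Ctx S F m (-1) := by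
  refine ⟨hm, Or.inr rfl, fun N h => ?_, fun s hs hs2 hsq hd => ?_⟩
  · obtain ⟨g, hg⟩ := h.minus hm hab
    exact ⟨e.symm g, by rw [MulEquiv.orderOf_eq, hg]⟩
  · rw [Nat.card_congr e.toEquiv] at hd
    have h1 : s ∣ Nat.gcd 4 (Fintype.card F ^ m + 1) * Nat.card (Cfsg.POmega F (Cfsg.quadFormMinus (m - 1) F a b)) :=
      Dvd.dvd.mul_left hd _
    rw [Cfsg.Agent.S0294.result (F := F) rfl m hm a b hab, ← Nat.card_eq_fintype_card] at h1
    rcases (Nat.Prime.dvd_mul hs).1 h1 with h3 | h3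
    · rcases (Nat.Prime.dvd_mul hs).1 h3 with h4 | h4
      · exact absurd (hs.dvd_of_dvd_pow h4) hsq
      · exact minus_arith Nat.card_pos (by omega) hs hs2 h4
    · left
      have := prod_arith Nat.card_pos hs h3
      omega

/-- the top classes -/
def Top (m : ℕ) (δ : ℤ) (c : ℕ) : Prop :=
  c = 2 * (m - 1) ∨ (Odd (m - 1) ∧ c = m - 1) ∨ (δ = 1 ∧ Odd m ∧ c = m) ∨ (δ = -1 ∧ c = 2 * m)

section ctx

variable {S : Type u} [Group S] {F : Type} [Field F] [Finite F] {m : ℕ} {δ : ℤ}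

theorem Ctx.adj (C : Ctx S F m δ) {r s : ℕ} (hr : r.Prime) (hs : s.Prime) (hrs : r ≠ s)
    (h : wO (Nat.card F) r + wO (Nat.card F) s + 1 ≤ m) : ∃ g : S, orderOf g = r * s :=
  C.el _ (elt2_of_wO C.hδ hr hs hrs h)

theorem Ctx.clq (C : Ctx S F m δ) {r s : ℕ} (hr : r.Prime) (hs : s.Prime) (hr2 : r ≠ 2) (hs2 : s ≠ 2) (hrs : r ≠ s)
    (hrv : ¬ r ∣ Nat.card F) (hsv : ¬ s ∣ Nat.card F) (hd : r ∣ Nat.card S)
    (h : ee (Nat.card F) r = ee (Nat.card F) s) : ∃ g : S, orderOf g = r * s :=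
  C.el _ (elt2_of_ee C.hδ (by have := C.hm; omega) hr hs hr2 hs2 hrs hrv hsv h (C.cls r hr hr2 hrv hd))

theorem Ctx.wt (C : Ctx S F m δ) {w : ℕ} (hw : w.Prime) (hw2 : w ≠ 2) (hd : w ∣ Nat.card S) :
    wO (Nat.card F) w + 2 ≤ m ∨ (¬ w ∣ Nat.card F ∧ Top m δ (ee (Nat.card F) w)) := by
  have hm := C.hm
  by_cases hwv : w ∣ Nat.card F
  · left
    rw [wO, if_pos (Or.inr hwv)]
    omega
  · have h1 : wO (Nat.card F) w = eta (ee (Nat.card F) w) := if_neg (by rw [not_or]; exact ⟨hw2, hwv⟩)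
    have h2 := C.cls w hw hw2 hwv hd
    rw [h1]
    by_cases h3 : eta (ee (Nat.card F) w) + 2 ≤ m
    · exact Or.inl h3
    · right
      refine ⟨hwv, ?_⟩
      have h4 : eta (ee (Nat.card F) w) = m - 1 ∨ (eta (ee (Nat.card F) w) = m ∧ sg (ee (Nat.card F) w) = δ) := by
        omega
      unfold Top
      by_cases h5 : Even (ee (Nat.card F) w)
      · rw [eta, sg, if_pos h5, if_pos h5] at h4
        obtain ⟨j, hj⟩ := h5
        rcases h4 with h4 | ⟨h4, h6⟩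
        · left
          omega
        · right; right; right
          exact ⟨h6.symm, by omega⟩
      · rw [eta, sg, if_neg h5, if_neg h5] at h4
        rw [Nat.not_even_iff_odd] at h5
        rcases h4 with h4 | ⟨h4, h6⟩
        · right; left
          exact ⟨h4 ▸ h5, h4⟩
        · right; right; left
          exact ⟨h6.symm, h4 ▸ h5, h4⟩

theorem Ctx.top (C : Ctx S F m δ) {r : ℕ} (hr : r.Prime) (hr2 : r ≠ 2) (hd : r ∣ Nat.card S)
    (h : ¬ ∃ g : S, orderOf g = 2 * r) : ¬ r ∣ Nat.card F ∧ Top m δ (ee (Nat.card F) r) := by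
  rcases C.wt hr hr2 hd with h1 | h1
  · exfalso
    apply h
    obtain ⟨ε, hε, h2⟩ := exists_elt_wO (F := F) hr hr2
    exact C.el _ (elt2_two (hr.odd_of_ne_two hr2) h2 (wO_pos hr) hε C.hδ h1)
  · exact h1

/-- elements of odd order -/
theorem Ctx.of_odd (C : Ctx S F m δ) {N : ℕ} (hN : Odd N) (h : Elt F m δ N) : ∃ g : S, orderOf g = N :=
  C.el _ (Elt.two (by have := C.hm; omega) hN h)

theorem Ctx.of_odd' (C : Ctx S F m δ) {N : ℕ} {ε : ℤ} (hε : ε = 1 ∨ ε = -1) (hN : Odd N) (h : Elt F (m - 1) ε N) :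
    ∃ g : S, orderOf g = N :=
  C.of_odd hN (elt_extend h hε C.hδ (by have := C.hm; omega))

theorem Ctx.blk (C : Ctx S F m δ) {N M : ℕ} {ε ε' : ℤ} (he : ε * ε' = δ) (hN : Odd N) (hM : Odd M)
    (hco : Nat.Coprime N M) (h : Elt F (m - 1) ε N) (h' : Elt F 1 ε' M) : ∃ g : S, orderOf g = N * M := by
  have h1 := h.prod h'
  rw [he, hco.lcm_eq_mul, show m - 1 + 1 = m by have := C.hm; omega] at h1
  exact C.of_odd (hN.mul hM) h1

theorem Ctx.two_blk (C : Ctx S F m δ) {r : ℕ} {ε ε' : ℤ} (he : ε * ε' = δ) (hr : Odd r)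
    (h : Elt F (m - 1) ε r) (h' : Elt F 1 ε' 4) : ∃ g : S, orderOf g = 2 * r := by
  have h1 := Elt.prod_two (by have := C.hm; omega) hr h h' ⟨2, rfl⟩
  rw [he, show m - 1 + 1 = m by have := C.hm; omega] at h1
  have h2 : Nat.lcm r (4 / 2) = 2 * r := by
    rw [show 4 / 2 = 2 from rfl, Nat.Coprime.lcm_eq_mul (by exact Nat.coprime_two_right.2 hr), mul_comm]
  rw [h2] at h1
  exact C.el _ h1

theorem Ctx.two_tor (C : Ctx S F m δ) {r : ℕ} {ε : ℤ} (hε : ε = 1 ∨ ε = -1)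
    (h : Elt F (m - 1) ε (4 * r)) : ∃ g : S, orderOf g = 2 * r := by
  have h1 := Elt.add_two (n₂ := 1) le_rfl (mul_pm hε C.hδ) h ⟨2 * r, by ring⟩
  rw [← mul_assoc, sq_pm hε, one_mul, show m - 1 + 1 = m by have := C.hm; omega,
    show 4 * r / 2 = 2 * r by omega] at h1
  exact C.el _ h1

end ctx

/-! ### elements of the classes -/

section elts

variable {F : Type} [Field F] [Finite F] {m : ℕ}

theorem card_ge_one : 1 ≤ Nat.card F := Nat.card_pos

/-- class `2 j` : the minus torus -/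
theorem dvd_of_even {r j : ℕ} (hr : r.Prime) (hrv : ¬ r ∣ Nat.card F) (h : ee (Nat.card F) r = 2 * j) :
    r ∣ Nat.card F ^ j + 1 := by
  have h1 := dvd_tn (q := Nat.card F) card_ge_one hr hrv
  rw [tn, h, if_pos (even_two_mul j), Nat.mul_div_cancel_left j two_pos] at h1
  exact h1

theorem dvd_of_odd {r j : ℕ} (h : ee (Nat.card F) r = j) : r ∣ Nat.card F ^ j - 1 := by
  have h1 := dvd_pow_ee (q := Nat.card F) (r := r) card_ge_one
  rwa [h] at h1

theorem one_of_dvd {s : ℕ} (hs : s.Prime) (hs2 : s ≠ 2) (h : s ∣ Nat.card F ^ 2 - 1) :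
    ¬ s ∣ Nat.card F ∧ wO (Nat.card F) s = 1 ∧ ee (Nat.card F) s ≤ 2 := by
  have hsv : ¬ s ∣ Nat.card F := by
    intro h1
    have h2 : s ∣ Nat.card F ^ 2 := dvd_pow h1 two_ne_zero
    have h3 := Nat.dvd_sub h2 h
    have h4 : 1 ≤ Nat.card F ^ 2 := Nat.one_le_pow _ _ card_ge_one
    rw [Nat.sub_sub_self h4] at h3
    exact hs.one_lt.ne' (Nat.dvd_one.1 h3)
  have h1 := ee_dvd (card_ge_one (F := F)) h
  have h2 := Nat.le_of_dvd two_pos h1
  have h3 := ee_pos hs hsv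
  refine ⟨hsv, ?_, h2⟩
  rw [wO, if_neg (by rw [not_or]; exact ⟨hs2, hsv⟩), eta]
  have h4 : ee (Nat.card F) s = 1 ∨ ee (Nat.card F) s = 2 := by omega
  rcases h4 with h4 | h4 <;> rw [h4] <;> decide

end elts

end Cfsg.Agent.H706.ESeven
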